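import Mathlib

/-!
# Dimension of an essentially integral local extension of a normal local domain (helper2)
-/

set_option backward.isDefEq.respectTransparency.types false
set_option synthInstance.maxHeartbeats 400000
set_option maxHeartbeats 4000000
set_option autoImplicit false
set_option linter.unusedSectionVars false
set_option linter.style.haveILetI false
set_option linter.unusedVariables false
universe u
open IsLocalRing

namespace Groth.Agent.Lib.Helper2.FinReg

theorem dim_of_subalgebra {R T : Type u} [CommRing R] [CommRing T] [IsLocalRing R]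
    [IsLocalRing T] [IsNoetherianRing R] [IsDomain R] [IsIntegrallyClosed R] [IsDomain T] [Algebra R T]
    [IsLocalHom (algebraMap R T)]
    (hinj : Function.Injective (algebraMap R T))
    (D : Subalgebra R T) [Algebra.IsIntegral R D] [IsNoetherianRing D]
    (hloc : ∀ t : T, ∃ d s : D, IsUnit (s : T) ∧ t * (s : T) = (d : T)) :
    ringKrullDim T = ringKrullDim R ∧
      ringKrullDim (T ⧸ (maximalIdeal R).map (algebraMap R T)) = 0 := by
  -- the prime of `D` below the maximal ideal of `T`
  obtain ⟨qb, hqb⟩ : ∃ qb : Ideal D, qb = (maximalIdeal T).comap (algebraMap D T) := ⟨_, rfl⟩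
  haveI hqbp : qb.IsPrime := by rw [hqb]; infer_instance
  have hmem : ∀ d : D, d ∈ qb ↔ (d : T) ∈ maximalIdeal T := by
    intro d; rw [hqb]; rfl
  haveI hlocz : IsLocalization.AtPrime T qb := by
    rw [IsLocalization.AtPrime, isLocalization_iff]
    refine ⟨?_, ?_, ?_⟩
    · rintro ⟨s, hs⟩
      have : (s : T) ∉ maximalIdeal T := fun h => hs ((hmem s).mpr h)
      exact IsLocalRing.notMem_maximalIdeal.mp this
    · intro t
      obtain ⟨d, s, hs, h⟩ := hloc t
      have hs' : s ∈ qb.primeCompl := fun h =>
        (IsLocalRing.mem_maximalIdeal _).mp ((hmem s).mp h) hs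
      exact ⟨⟨d, ⟨s, hs'⟩⟩, h⟩
    · intro a b h
      exact ⟨1, by rw [Subtype.ext (show (a : T) = (b : T) from h)]⟩
  have hTdim : ringKrullDim T = qb.height :=
    IsLocalization.AtPrime.ringKrullDim_eq_height qb T
  -- lies over
  have hcomap : (maximalIdeal T).comap (algebraMap R T) = maximalIdeal R :=
    ((IsLocalRing.local_hom_TFAE (algebraMap R T)).out 0 4).mp ‹IsLocalHom (algebraMap R T)›
  have hunder : qb.comap (algebraMap R D) = maximalIdeal R := by
    rw [hqb, Ideal.comap_comap, ← IsScalarTower.algebraMap_eq, hcomap]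
  haveI hlo : qb.LiesOver (maximalIdeal R) := ⟨hunder.symm⟩
  haveI : FaithfulSMul R D := by
    rw [faithfulSMul_iff_algebraMap_injective]
    intro a b h
    apply hinj
    have := congrArg (algebraMap D T) h
    rwa [← IsScalarTower.algebraMap_apply, ← IsScalarTower.algebraMap_apply] at this
  haveI : Algebra.HasGoingDown R D := inferInstance
  have hform := Ideal.height_eq_height_add_of_liesOver_of_hasGoingDown (maximalIdeal R) qb
  -- incomparability
  have hincomp : ∀ q' : Ideal D, q'.IsPrime → q' ≤ qb →
      (maximalIdeal R).map (algebraMap R D) ≤ q' → q' = qb := by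
    intro q' hq' hle hJ
    by_contra hne
    have hlt : q' < qb := lt_of_le_of_ne hle hne
    have h1 := Ideal.IsIntegral.comap_lt_comap (R := R) hlt
    rw [hunder] at h1
    have h2 : maximalIdeal R ≤ q'.comap (algebraMap R D) := by
      rw [← Ideal.map_le_iff_le_comap]; exact hJ
    exact lt_irrefl _ (lt_of_le_of_lt h2 h1)
  obtain ⟨J, hJ⟩ : ∃ J : Ideal D, J = (maximalIdeal R).map (algebraMap R D) := ⟨_, rfl⟩
  have hJle : J ≤ qb := by
    rw [hJ, Ideal.map_le_iff_le_comap, hunder]
  have hmk : Function.Surjective (Ideal.Quotient.mk J) := Ideal.Quotient.mk_surjective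
  haveI hQ0p : (qb.map (Ideal.Quotient.mk J)).IsPrime :=
    Ideal.map_isPrime_of_surjective hmk (by rw [Ideal.mk_ker]; exact hJle)
  have hQ0 : (qb.map (Ideal.Quotient.mk J)).height = 0 := by
    rw [Ideal.height_eq_zero_iff]
    refine ⟨⟨hQ0p, bot_le⟩, ?_⟩
    rintro Q' ⟨hQ'p, -⟩ hQle
    have hq'p : (Q'.comap (Ideal.Quotient.mk J)).IsPrime := Ideal.comap_isPrime _ _
    have h1 : Q'.comap (Ideal.Quotient.mk J) ≤ qb := by
      have := Ideal.comap_mono (f := Ideal.Quotient.mk J) hQle
      rw [Ideal.comap_map_of_surjective _ hmk, ← RingHom.ker_eq_comap_bot, Ideal.mk_ker,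
        sup_eq_left.mpr hJle] at this
      exact this
    have h2 : J ≤ Q'.comap (Ideal.Quotient.mk J) := by
      intro a ha
      rw [Ideal.mem_comap, Ideal.Quotient.eq_zero_iff_mem.mpr ha]
      exact Q'.zero_mem
    have h3 := hincomp _ hq'p h1 (hJ ▸ h2)
    rw [← h3, Ideal.map_comap_of_surjective _ hmk]
  have h1 : ringKrullDim T = ringKrullDim R := by
    rw [hTdim, ← IsLocalRing.maximalIdeal_height_eq_ringKrullDim (R := R), hform, ← hJ, hQ0,
      add_zero]
  refine ⟨h1, ?_⟩
  -- the fibre has dimension zero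
  obtain ⟨I, hI⟩ : ∃ I : Ideal T, I = (maximalIdeal R).map (algebraMap R T) := ⟨_, rfl⟩
  rw [← hI]
  have hIle : I ≤ maximalIdeal T := by
    rw [hI]
    exact ((IsLocalRing.local_hom_TFAE (algebraMap R T)).out 0 2).mp ‹IsLocalHom (algebraMap R T)›
  haveI : Nontrivial (T ⧸ I) := Ideal.Quotient.nontrivial_iff.mpr
    (fun h => (maximalIdeal.isMaximal T).ne_top (top_le_iff.mp (h ▸ hIle)))
  have hmkI : Function.Surjective (Ideal.Quotient.mk I) := Ideal.Quotient.mk_surjective
  haveI : Ring.KrullDimLE 0 (T ⧸ I) := by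
    rw [Ring.krullDimLE_zero_iff]
    intro Q hQ
    have hPp : (Q.comap (Ideal.Quotient.mk I)).IsPrime := Ideal.comap_isPrime _ _
    have hIP : I ≤ Q.comap (Ideal.Quotient.mk I) := by
      intro a ha
      rw [Ideal.mem_comap, Ideal.Quotient.eq_zero_iff_mem.mpr ha]
      exact Q.zero_mem
    have hPm : Q.comap (Ideal.Quotient.mk I) ≤ maximalIdeal T :=
      IsLocalRing.le_maximalIdeal hPp.ne_top
    -- contract to `D`
    have hPD : (Q.comap (Ideal.Quotient.mk I)).comap (algebraMap D T) = qb := by
      apply hincomp _ (Ideal.comap_isPrime _ _)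
      · rw [hqb]; exact Ideal.comap_mono hPm
      · rw [Ideal.map_le_iff_le_comap, Ideal.comap_comap, ← IsScalarTower.algebraMap_eq,
          ← Ideal.map_le_iff_le_comap, ← hI]
        exact hIP
    have hP : Q.comap (Ideal.Quotient.mk I) = maximalIdeal T := by
      have e1 := IsLocalization.map_under qb.primeCompl T (Q.comap (Ideal.Quotient.mk I))
      have e2 := IsLocalization.map_under qb.primeCompl T (maximalIdeal T)
      rw [Ideal.under_def] at e1 e2
      rw [← e1, hPD, hqb, e2]
    have : Q = (maximalIdeal T).map (Ideal.Quotient.mk I) := by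
      rw [← hP, Ideal.map_comap_of_surjective _ hmkI]
    rw [this]
    exact Ideal.IsMaximal.map_of_surjective_of_ker_le hmkI
      (by rw [Ideal.mk_ker]; exact hIle)
  exact (ringKrullDimZero_iff_ringKrullDim_eq_zero).mp inferInstance

theorem core {A B R T : Type u} [CommRing A] [CommRing B] [CommRing R] [CommRing T]
    [IsLocalRing R] [IsLocalRing T] [IsNoetherianRing R]
    [IsDomain R] [IsIntegrallyClosed R] [IsDomain T] [Algebra R T]
    [IsLocalHom (algebraMap R T)]
    (hinj : Function.Injective (algebraMap R T))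
    (α : A →+* R) (β : B →+* T) (g : A →+* B)
    (hcomm : (algebraMap R T).comp α = β.comp g) (hfin : g.Finite)
    (hβ : ∀ t : T, ∃ b s : B, IsUnit (β s) ∧ t * β s = β b) :
    ringKrullDim T = ringKrullDim R ∧
      ringKrullDim (T ⧸ (maximalIdeal R).map (algebraMap R T)) = 0 := by
  classical
  letI := g.toAlgebra
  haveI : Module.Finite A B := hfin
  obtain ⟨s, hs⟩ : ∃ s : Finset B, Submodule.span A (s : Set B) = ⊤ :=
    (Module.Finite.fg_top (R := A) (M := B))
  obtain ⟨D, hDdef⟩ : ∃ D : Subalgebra R T,
      D = Algebra.adjoin R ((s.image β : Finset T) : Set T) := ⟨_, rfl⟩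
  have hgen : ∀ b ∈ s, β b ∈ D := by
    intro b hb
    rw [hDdef]
    apply Algebra.subset_adjoin
    rw [Finset.coe_image]
    exact ⟨b, hb, rfl⟩
  have hD : ∀ b : B, β b ∈ D := by
    intro b
    have hb : b ∈ Submodule.span A (s : Set B) := by rw [hs]; trivial
    induction hb using Submodule.span_induction with
    | mem x hx => exact hgen x hx
    | zero => rw [map_zero]; exact D.zero_mem
    | add x y _ _ hx hy => rw [map_add]; exact D.add_mem hx hy
    | smul a x _ hx =>
      have e : β (a • x) = algebraMap R T (α a) * β x := by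
        rw [Algebra.smul_def, map_mul]
        congr 1
        exact (congrArg (fun h => h a) hcomm).symm
      rw [e]
      exact D.mul_mem (D.algebraMap_mem _) hx
  have hint : ∀ b : B, IsIntegral R (β b) := by
    intro b
    obtain ⟨p, hp, hpb⟩ := hfin.to_isIntegral b
    refine ⟨p.map α, hp.map α, ?_⟩
    rw [Polynomial.eval₂_map, hcomm, ← Polynomial.hom_eval₂, hpb, map_zero]
  haveI : Algebra.IsIntegral R D := by
    have hle : D ≤ integralClosure R T := by
      rw [hDdef]
      apply Algebra.adjoin_le
      intro t ht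
      rw [Finset.coe_image] at ht
      obtain ⟨b, -, rfl⟩ := ht
      exact hint b
    refine ⟨fun d => ?_⟩
    have h1 : IsIntegral R (d : T) := hle d.2
    exact (isIntegral_algebraMap_iff (A := D) (B := T) Subtype.val_injective).mp h1
  haveI : IsNoetherianRing D := by
    rw [hDdef]
    exact isNoetherianRing_of_fg (Subalgebra.fg_adjoin_finset _)
  refine dim_of_subalgebra hinj D ?_
  intro t
  obtain ⟨b, c, hc, h⟩ := hβ t
  exact ⟨⟨β b, hD b⟩, ⟨β c, hD c⟩, hc, h⟩

end Groth.Agent.Lib.Helper2.FinReg
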