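import Mathlib
import Groth.Prelude
import Groth.Agent.Lib.Helper2.FinReg.Core
import Groth.Agent.Lib.Helper8.FlatReg6
import Groth.Agent.Lib.Helper8.Serre3
import Groth.Agent.Lib.Helper4.RegularLocalCopy

/-!
# A finite morphism of regular schemes with component-wise dominance is flat (helper2)
-/

set_option backward.isDefEq.respectTransparency.types false
set_option synthInstance.maxHeartbeats 400000
set_option maxHeartbeats 4000000
set_option autoImplicit false
set_option linter.unusedSectionVars false
set_option linter.style.haveILetI false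
set_option linter.unusedVariables false
universe u
open CategoryTheory AlgebraicGeometry TopologicalSpace IsLocalRing Opposite

namespace Groth.Agent.Lib.Helper2.FinReg

/-- The stalk map at `x` is injective when the stalks are domains and every irreducible component
of `X` dominates an irreducible component of `Y`. -/
theorem stalkMap_injective_of_components {X Y : Scheme.{u}} (f : X ⟶ Y) (x : X)
    [IsDomain (X.presheaf.stalk x)] [IsDomain (Y.presheaf.stalk (f x))]
    (hdom : ∀ Z ∈ irreducibleComponents (X : Type u),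
      closure (f.base '' Z) ∈ irreducibleComponents (Y : Type u)) :
    Function.Injective (f.stalkMap x).hom := by
  let ξ : Spec (X.presheaf.stalk x) := ⟨⊥, Ideal.isPrime_bot⟩
  let ζ₀ : Spec (Y.presheaf.stalk (f x)) := ⟨⊥, Ideal.isPrime_bot⟩
  obtain ⟨η, hη⟩ : ∃ η : X, η = X.fromSpecStalk x ξ := ⟨_, rfl⟩
  -- `η` has no proper generizations
  have hmax : ∀ z : X, z ⤳ η → z = η := by
    intro z hz
    have hηx : η ⤳ x := by
      have : η ∈ Set.range (X.fromSpecStalk x) := ⟨ξ, hη.symm⟩
      rwa [Scheme.range_fromSpecStalk] at this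
    have hzx : z ∈ Set.range (X.fromSpecStalk x) := by
      rw [Scheme.range_fromSpecStalk]; exact hz.trans hηx
    obtain ⟨ζ, rfl⟩ := hzx
    rw [hη] at hz ⊢
    have h1 : ζ ⤳ ξ :=
      ((X.fromSpecStalk x).isEmbedding.isInducing.specializes_iff).mp hz
    have h2' : ζ.asIdeal ≤ ⊥ := by
      have := (PrimeSpectrum.le_iff_specializes (R := X.presheaf.stalk x) ζ ξ).mpr h1
      exact this
    have h3 : ζ.asIdeal = ⊥ := le_bot_iff.mp h2'
    congr 1
    exact PrimeSpectrum.ext h3
  -- so its closure is an irreducible component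
  have hcomp : closure ({η} : Set X) ∈ irreducibleComponents (X : Type u) := by
    refine ⟨isIrreducible_singleton.closure, ?_⟩
    intro S hS hle
    have hSc : IsIrreducible (closure S) := hS.closure
    obtain ⟨g, hg⟩ := QuasiSober.sober hSc isClosed_closure
    have hηS : η ∈ closure S := subset_closure (hle (subset_closure rfl))
    have hgη : g ⤳ η := by
      rw [specializes_iff_mem_closure, hg.def]; exact hηS
    have := hmax g hgη
    subst this
    intro s hs
    have : s ∈ closure S := subset_closure hs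
    rwa [← hg.def] at this
  have hcompY : closure ({f η} : Set Y) ∈ irreducibleComponents (Y : Type u) := by
    have := hdom _ hcomp
    rwa [closure_image_closure f.continuous, Set.image_singleton] at this
  -- the image of `η`
  have hfη : f η = Y.fromSpecStalk (f x) (Spec.map (f.stalkMap x) ξ) := by
    rw [hη, ← Scheme.Hom.comp_apply, ← Scheme.Hom.comp_apply,
      Scheme.SpecMap_stalkMap_fromSpecStalk]
  have hspec : ζ₀ ⤳ Spec.map (f.stalkMap x) ξ := by
    refine (PrimeSpectrum.le_iff_specializes (ζ₀ : PrimeSpectrum (Y.presheaf.stalk (f x)))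
      (Spec.map (f.stalkMap x) ξ)).mp ?_
    show (⊥ : Ideal _) ≤ _
    exact bot_le
  have hy₀ : Y.fromSpecStalk (f x) ζ₀ ⤳ f η := by
    rw [hfη]; exact hspec.map (Y.fromSpecStalk (f x)).continuous
  have hback : f η ⤳ Y.fromSpecStalk (f x) ζ₀ := by
    have h1 : closure ({f η} : Set Y) ≤ closure {Y.fromSpecStalk (f x) ζ₀} :=
      specializes_iff_closure_subset.mp hy₀
    have h2 := hcompY.2 (isIrreducible_singleton.closure) h1
    rw [specializes_iff_mem_closure]
    exact h2 (subset_closure rfl)
  have heq : Y.fromSpecStalk (f x) ζ₀ = f η := (hy₀.antisymm hback).eq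
  rw [hfη] at heq
  have heq' : ζ₀ = Spec.map (f.stalkMap x) ξ :=
    (Y.fromSpecStalk (f x)).isEmbedding.injective heq
  rw [RingHom.injective_iff_ker_eq_bot]
  have := congrArg PrimeSpectrum.asIdeal heq'
  exact this.symm

open LocCoh in
theorem flat_of_finite_regular {X Y : Scheme.{u}} (f : X ⟶ Y) [IsFinite f]
    [IsLocallyNoetherian X] [IsLocallyNoetherian Y]
    (hX : ∀ x : X, IsRegularLocalRing (X.presheaf.stalk x))
    (hY : ∀ y : Y, IsRegularLocalRing (Y.presheaf.stalk y))
    (hdom : ∀ Z ∈ irreducibleComponents (X : Type u),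
      closure (f.base '' Z) ∈ irreducibleComponents (Y : Type u)) :
    Flat f := by
  rw [Flat.iff_flat_stalkMap]
  intro x
  haveI := hX x
  haveI := hY (f x)
  haveI : IsDomain (X.presheaf.stalk x) := Groth.Agent.Lib.Helper4.RegularLocalCopy.isDomain _
  haveI : IsDomain (Y.presheaf.stalk (f x)) :=
    Groth.Agent.Lib.Helper4.RegularLocalCopy.isDomain _
  haveI : IsIntegrallyClosed (Y.presheaf.stalk (f x)) :=
    Groth.Agent.Helper8.Serre.isIntegrallyClosed_of_isRegularLocalRing _
  haveI : IsCohenMacaulayLocalRing (X.presheaf.stalk x) :=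
    Groth.Agent.Helper8.FlatReg.isCohenMacaulayLocalRing_of_isRegularLocalRing _
  have hinj := stalkMap_injective_of_components f x hdom
  letI := (f.stalkMap x).hom.toAlgebra
  haveI : IsLocalHom (algebraMap (Y.presheaf.stalk (f x)) (X.presheaf.stalk x)) :=
    inferInstanceAs (IsLocalHom (f.stalkMap x).hom)
  -- affine chart
  obtain ⟨V, hV, hyV, -⟩ := exists_isAffineOpen_mem_and_subset (x := f x) (U := ⊤) trivial
  have hU : IsAffineOpen (f ⁻¹ᵁ V) := hV.preimage f
  have hxU : x ∈ f ⁻¹ᵁ V := hyV
  have hfin : (f.app V).hom.Finite := Scheme.Hom.finite_app f V hV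
  have hcomm : (algebraMap (Y.presheaf.stalk (f x)) (X.presheaf.stalk x)).comp
      (Y.presheaf.germ V (f x) hyV).hom =
      (X.presheaf.germ (f ⁻¹ᵁ V) x hxU).hom.comp (f.app V).hom := by
    have := Scheme.Hom.germ_stalkMap f V x hyV
    exact congrArg CommRingCat.Hom.hom this
  have hβ : ∀ t : X.presheaf.stalk x, ∃ b s : Γ(X, f ⁻¹ᵁ V),
      IsUnit ((X.presheaf.germ (f ⁻¹ᵁ V) x hxU).hom s) ∧
        t * (X.presheaf.germ (f ⁻¹ᵁ V) x hxU).hom s =
          (X.presheaf.germ (f ⁻¹ᵁ V) x hxU).hom b := by
    intro t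
    letI := X.presheaf.algebra_section_stalk (U := f ⁻¹ᵁ V) ⟨x, hxU⟩
    haveI := hU.isLocalization_stalk ⟨x, hxU⟩
    obtain ⟨⟨b, s⟩, h⟩ := IsLocalization.surj (hU.primeIdealOf ⟨x, hxU⟩).asIdeal.primeCompl t
    exact ⟨b, s.1, IsLocalization.map_units (X.presheaf.stalk x) s, h⟩
  obtain ⟨hdim, hfib⟩ := core hinj (Y.presheaf.germ V (f x) hyV).hom
    (X.presheaf.germ (f ⁻¹ᵁ V) x hxU).hom (f.app V).hom hcomm hfin hβ
  have : Module.Flat (Y.presheaf.stalk (f x)) (X.presheaf.stalk x) :=
    Groth.Agent.Helper8.FlatReg.miracle_flatness (by rw [hfib, add_zero, hdim])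
  exact this

end Groth.Agent.Lib.Helper2.FinReg
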